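import Mathlib

/-!
The automorphism `t ↦ t (1 + t ^ n) ^ (-1/n)` of `k⟦t⟧` in characteristic `p`.
-/

noncomputable section

namespace Groth.Agent.ASLocal

open PowerSeries

universe u
variable {k : Type u} [Field k] {n : ℕ}

theorem isUnit_geom {a b : PowerSeries k} (ha : constantCoeff a = 1) (hb : constantCoeff b = 1)
    (hn : (n : k) ≠ 0) : IsUnit (∑ i ∈ Finset.range n, a ^ i * b ^ (n - 1 - i)) := by
  rw [PowerSeries.isUnit_iff_constantCoeff, map_sum]
  simp [ha, hb, hn]

theorem eq_of_pow_eq {a b : PowerSeries k} (ha : constantCoeff a = 1) (hb : constantCoeff b = 1)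
    (hn : (n : k) ≠ 0) (h : a ^ n = b ^ n) : a = b := by
  have h1 := geom_sum₂_mul a b n
  rw [h, sub_self] at h1
  exact sub_eq_zero.1 ((isUnit_geom ha hb hn).mul_right_eq_zero.1 h1)

variable {u : PowerSeries k} (hu1 : constantCoeff u = 1) (hun : u ^ n * (1 + X ^ n) = 1)
  (hn : (n : k) ≠ 0)

include hu1 hun hn in
theorem dvd_sub_one : X ^ n ∣ u - 1 := by
  obtain ⟨e, he⟩ := isUnit_geom (n := n) hu1 (map_one _) hn
  have h1 : (∑ i ∈ Finset.range n, u ^ i * 1 ^ (n - 1 - i)) * (u - 1) = X ^ n * -(u ^ n) := by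
    rw [geom_sum₂_mul, one_pow]
    linear_combination hun
  rw [← he] at h1
  rw [show u - 1 = (↑e⁻¹ : PowerSeries k) * (X ^ n * -(u ^ n)) by rw [← h1, Units.inv_mul_cancel_left]]
  exact dvd_mul_of_dvd_right (dvd_mul_right _ _) _

/-- modulo `X ^ (2n)` -/
abbrev sq (k : Type u) [Field k] (n : ℕ) : Ideal (PowerSeries k) := Ideal.span {X ^ (2 * n)}

include hu1 hun hn in
theorem mk_u : Ideal.Quotient.mk (sq k n) u =
    1 + Ideal.Quotient.mk (sq k n) (C (-(n : k)⁻¹) * X ^ n) := by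
  set π := Ideal.Quotient.mk (sq k n) with hπ
  set ε := π (X ^ n) with hεdef
  have hε : ε * ε = 0 := by
    rw [hεdef, ← map_mul, ← pow_add, ← two_mul, Ideal.Quotient.eq_zero_iff_mem]
    exact Ideal.mem_span_singleton_self _
  obtain ⟨w, hw⟩ := dvd_sub_one hu1 hun hn
  have hu' : π u = 1 + ε * π w := by
    rw [hεdef, ← map_mul, ← hw, map_sub, map_one]; ring
  have hpow : ∀ i : ℕ, (1 + ε * π w) ^ i = 1 + (i : PowerSeries k ⧸ sq k n) * (ε * π w) := by
    intro i
    induction i with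
    | zero => simp
    | succ i ih =>
      rw [pow_succ, ih, Nat.cast_succ]
      linear_combination (i : PowerSeries k ⧸ sq k n) * π w * π w * hε
  have h := congrArg π hun
  rw [map_mul, map_pow, map_add, map_one, hu', hpow, ← hεdef] at h
  have h2 : ε * ((n : PowerSeries k ⧸ sq k n) * π w + 1) = 0 := by
    linear_combination h - (n : PowerSeries k ⧸ sq k n) * π w * hε
  have hc : π (C (-(n : k)⁻¹)) * (n : PowerSeries k ⧸ sq k n) = -1 := by
    rw [← map_natCast (π.comp C), RingHom.comp_apply, ← map_mul, ← map_mul, neg_mul, inv_mul_cancel₀ hn,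
      map_neg, map_neg, map_one, map_one]
  rw [map_mul, ← hεdef, hu']
  linear_combination (-(π (C (-(n : k)⁻¹)))) * h2 + ε * π w * hc

include hu1 hun hn in
theorem mk_zpow (hu : IsUnit u) (j : ℤ) :
    Ideal.Quotient.mk (sq k n) ((hu.unit ^ j : (PowerSeries k)ˣ) : PowerSeries k) =
      1 + Ideal.Quotient.mk (sq k n) (C (-(j : k) * (n : k)⁻¹) * X ^ n) := by
  set π := Ideal.Quotient.mk (sq k n) with hπ
  set ε := π (X ^ n) with hεdef
  have hε : ε * ε = 0 := by
    rw [hεdef, ← map_mul, ← pow_add, ← two_mul, Ideal.Quotient.eq_zero_iff_mem]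
    exact Ideal.mem_span_singleton_self _
  have h1 : π u = 1 + π (C (-(n : k)⁻¹)) * ε := by rw [mk_u hu1 hun hn, map_mul]
  have hinv : π ((hu.unit⁻¹ : (PowerSeries k)ˣ) : PowerSeries k) = 1 - π (C (-(n : k)⁻¹)) * ε := by
    have h2 : π ((hu.unit⁻¹ : (PowerSeries k)ˣ) : PowerSeries k) * π u = 1 := by
      rw [← map_mul, IsUnit.val_inv_mul, map_one]
    rw [h1] at h2
    linear_combination (1 - π (C (-(n : k)⁻¹)) * ε) * h2 +
      π ((hu.unit⁻¹ : (PowerSeries k)ˣ) : PowerSeries k) * π (C (-(n : k)⁻¹)) * π (C (-(n : k)⁻¹)) * hε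
  induction j with
  | zero => simp
  | succ i ih =>
    rw [zpow_add_one, Units.val_mul, map_mul, ih, IsUnit.unit_spec, h1]
    simp only [map_mul, map_neg, map_add, map_one, Int.cast_add, Int.cast_one, neg_mul, add_mul, neg_add,
      one_mul, ← hεdef]
    linear_combination π (C ((i : ℤ) : k)) * π (C (n : k)⁻¹) * π (C (n : k)⁻¹) * hε
  | pred i ih =>
    rw [zpow_sub_one, Units.val_mul, map_mul, ih, hinv]
    simp only [map_mul, map_neg, map_sub, map_add, map_one, Int.cast_sub, Int.cast_neg, Int.cast_one, neg_mul,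
      neg_sub, sub_mul, neg_neg, sub_neg_eq_add, add_mul, one_mul, ← hεdef]
    linear_combination π (C ((i : ℤ) : k)) * π (C (n : k)⁻¹) * π (C (n : k)⁻¹) * hε

include hu1 hun hn in
theorem coeff_zpow_sub_one (hu : IsUnit u) (j : ℤ) (i : ℕ) (hi : i < 2 * n) :
    coeff i (((hu.unit ^ j : (PowerSeries k)ˣ) : PowerSeries k) - 1) = if i = n then -(j : k) * (n : k)⁻¹ else 0 := by
  have h := mk_zpow hu1 hun hn hu j
  rw [← sub_eq_iff_eq_add', ← map_one (Ideal.Quotient.mk (sq k n)), ← map_sub, Ideal.Quotient.mk_eq_mk_iff_sub_mem,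
    Ideal.mem_span_singleton, X_pow_dvd_iff] at h
  rw [← sub_eq_zero.1 (show coeff i (((hu.unit ^ j : (PowerSeries k)ˣ) : PowerSeries k) - 1) -
    coeff i (C (-(j : k) * (n : k)⁻¹) * X ^ n) = 0 by rw [← map_sub]; exact h i hi) |>.symm]
  rw [coeff_C_mul, coeff_X_pow]
  split_ifs <;> simp

omit hu1 hun hn in
theorem hasSubst (u : PowerSeries k) : HasSubst (X * u) := HasSubst.of_constantCoeff_zero' (by simp)

include hu1 hun hn in
theorem coeff_subst_of_lt (h : PowerSeries k) (i : ℕ) (hi : i < n) :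
    coeff i (subst (X * u) h) = coeff i h := by
  have h' : ∀ d : ℕ, coeff i ((X * u) ^ d) = if i = d then 1 else 0 := fun d => by
    have hd : X ^ n ∣ u ^ d - 1 := (dvd_sub_one hu1 hun hn).trans (sub_one_dvd_pow_sub_one u d)
    have h2 : X ^ n ∣ (X * u) ^ d - X ^ d := by
      rw [mul_pow, show X ^ d * u ^ d - X ^ d = X ^ d * (u ^ d - 1) by ring]
      exact dvd_mul_of_dvd_right hd _
    rw [X_pow_dvd_iff] at h2
    have h3 := h2 i hi
    rw [map_sub, sub_eq_zero] at h3
    rw [h3, coeff_X_pow]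
  rw [coeff_subst' (hasSubst u)]
  simp only [h', smul_eq_mul, mul_ite, mul_one, mul_zero]
  rw [finsum_eq_single _ i (fun d hd => if_neg (Ne.symm hd))]
  simp

end Groth.Agent.ASLocal
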