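import Groth.Agent.ASLocal.Basic
import Groth.Agent.S13864

/-!
First cohomology of the local Artin–Schreier automorphism acting on the twists of `k⟦t⟧`.
-/

noncomputable section

namespace Groth.Agent.ASLocal

open PowerSeries

universe u

section cyclic

variable {k : Type u} [Field k] {G : Type u} [Group G] [Finite G] {V : Type u} [AddCommGroup V] [Module k V]
  (ρ : Representation k G V) (g : G) (p : ℕ) [Fact p.Prime]

/-- the trace `1 + g + ⋯ + g ^ (p - 1)` -/
def tr : Module.End k V := ∑ l ∈ Finset.range p, (ρ g) ^ l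

/-- evaluation of a cocycle at the generator -/
def evalGen : groupCohomology.cocycles₁ (Rep.of ρ) →ₗ[k] V where
  toFun f := f.1 g
  map_add' _ _ := rfl
  map_smul' _ _ := rfl

/-- the class in the cokernel of `g - 1` of the value at the generator -/
def psi : groupCohomology.cocycles₁ (Rep.of ρ) →ₗ[k] V ⧸ LinearMap.range (ρ g - 1) :=
  (LinearMap.range (ρ g - 1)).mkQ ∘ₗ evalGen ρ g

variable (hG : Nat.card G = p) (hg : ∀ x : G, x ∈ Subgroup.zpowers g)

include hG hg in
theorem orderOf_gen : orderOf g = p := by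
  rw [← hG, orderOf_eq_card_of_forall_mem_zpowers hg]

include hG in
theorem rho_pow : ρ g ^ p = 1 := by
  rw [← map_pow, ← hG, pow_card_eq_one', map_one]

omit [Finite G] [Fact p.Prime] in
theorem cocycle_pow (f : groupCohomology.cocycles₁ (Rep.of ρ)) (i : ℕ) :
    f.1 (g ^ i) = ∑ l ∈ Finset.range i, (ρ g ^ l) (f.1 g) := by
  induction i with
  | zero => simpa using groupCohomology.cocycles₁_map_one f
  | succ i ih =>
    rw [pow_succ, (groupCohomology.mem_cocycles₁_iff f.1).1 f.2, ih, Finset.sum_range_succ, ← map_pow]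
    change ρ (g ^ i) (f.1 g) + _ = _
    rw [add_comm]

include hG hg in
theorem tr_evalGen (f : groupCohomology.cocycles₁ (Rep.of ρ)) : tr ρ g p (evalGen ρ g f) = 0 := by
  rw [tr, LinearMap.sum_apply]
  change ∑ l ∈ Finset.range p, (ρ g ^ l) (f.1 g) = 0
  rw [← cocycle_pow, ← orderOf_gen g p hG hg, pow_orderOf_eq_one]
  exact groupCohomology.cocycles₁_map_one f

include hG hg in
theorem exists_cocycle (c : V) (hc : tr ρ g p c = 0) :
    ∃ f : groupCohomology.cocycles₁ (Rep.of ρ), evalGen ρ g f = c := by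
  classical
  have hord := orderOf_gen g p hG hg
  let E : ℕ → V := fun i => ∑ l ∈ Finset.range i, (ρ g ^ l) c
  have hadd : ∀ i j, E (i + j) = E i + (ρ g ^ i) (E j) := fun i j => by
    simp only [E, Finset.sum_range_add, map_sum, pow_add, Module.End.mul_apply]
  have hmod : ∀ i, E i = E (i % p) := fun i => by
    induction i using Nat.strong_induction_on with
    | _ i ih =>
      rcases Nat.lt_or_ge i p with h | h
      · rw [Nat.mod_eq_of_lt h]
      · obtain ⟨j, rfl⟩ : ∃ j, i = j + p := ⟨i - p, by omega⟩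
        rw [hadd, show E p = 0 by simpa [E, tr, LinearMap.sum_apply] using hc, map_zero, add_zero,
          Nat.add_mod_right]
        exact ih j (by have := (Fact.out : p.Prime).pos; omega)
  choose j hj using fun x : G => (Submonoid.mem_powers_iff x g).1 (mem_powers_iff_mem_zpowers.2 (hg x))
  have hE : ∀ i i', g ^ i = g ^ i' → E i = E i' := fun i i' h => by
    rw [hmod i, hmod i', ← hord, pow_eq_pow_iff_modEq.1 h]
  refine ⟨⟨fun x => E (j x), (groupCohomology.mem_cocycles₁_iff _).2 fun x y => ?_⟩, ?_⟩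
  · change E (j (x * y)) = ρ x (E (j y)) + E (j x)
    rw [hE (j (x * y)) (j x + j y) (by rw [hj, pow_add, hj, hj]), hadd, add_comm]
    congr 1
    rw [← map_pow, hj]
  · change E (j g) = c
    rw [hE (j g) 1 (by rw [hj, pow_one])]
    simp [E]

include hG hg in
theorem ker_psi : LinearMap.ker (psi ρ g) = LinearMap.ker (groupCohomology.H1π (Rep.of ρ)).hom := by
  ext f
  rw [LinearMap.mem_ker, LinearMap.mem_ker, psi, LinearMap.comp_apply, Submodule.mkQ_apply,
    Submodule.Quotient.mk_eq_zero, LinearMap.mem_range]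
  rw [show (groupCohomology.H1π (Rep.of ρ)).hom f = 0 ↔ (f.1 : G → V) ∈ groupCohomology.coboundaries₁ (Rep.of ρ)
    from groupCohomology.H1π_eq_zero_iff f]
  constructor
  · rintro ⟨w, hw⟩
    refine ⟨w, funext fun x => ?_⟩
    obtain ⟨i, rfl⟩ := (Submonoid.mem_powers_iff x g).1 (mem_powers_iff_mem_zpowers.2 (hg x))
    rw [cocycle_pow ρ g f i, show f.1 g = evalGen ρ g f from rfl, ← hw]
    change ρ (g ^ i) w - w = _
    simp only [LinearMap.sub_apply, Module.End.one_apply, map_sub, ← Module.End.mul_apply, ← pow_succ]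
    rw [Finset.sum_range_sub (fun l => (ρ g ^ l) w), pow_zero, map_pow]
    rfl
  · rintro ⟨w, hw⟩
    exact ⟨w, by rw [show evalGen ρ g f = f.1 g from rfl, ← hw]; rfl⟩

/-- the induced map on `H¹` -/
theorem exists_theta :
    ∃ θ : groupCohomology.H1 (Rep.of ρ) →ₗ[k] V ⧸ LinearMap.range (ρ g - 1), Nat.card G = p →
      (∀ x : G, x ∈ Subgroup.zpowers g) → Function.Injective θ ∧
        θ ∘ₗ (groupCohomology.H1π (Rep.of ρ)).hom = psi ρ g := by
  by_cases h : Nat.card G = p ∧ ∀ x : G, x ∈ Subgroup.zpowers g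
  · have hsurj : Function.Surjective (groupCohomology.H1π (Rep.of ρ)).hom :=
      fun x => groupCohomology.H1_induction_on x fun y => ⟨y, rfl⟩
    let e := (groupCohomology.H1π (Rep.of ρ)).hom.quotKerEquivOfSurjective hsurj
    have hk := ker_psi ρ g p h.1 h.2
    let l := (LinearMap.ker (groupCohomology.H1π (Rep.of ρ)).hom).liftQ (psi ρ g) hk.ge
    refine ⟨l ∘ₗ e.symm.toLinearMap, fun _ _ => ⟨?_, ?_⟩⟩
    · show Function.Injective (l ∘ e.symm)
      exact (LinearMap.ker_eq_bot.1 (Submodule.ker_liftQ_eq_bot _ _ _ hk.le)).comp e.symm.injective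
    · refine LinearMap.ext fun f => ?_
      have he : e.symm ((groupCohomology.H1π (Rep.of ρ)).hom f) = Submodule.Quotient.mk f := e.symm_apply_eq.2 rfl
      simp only [LinearMap.comp_apply, LinearEquiv.coe_coe, he]
      rfl
  · exact ⟨0, fun h1 h2 => absurd ⟨h1, h2⟩ h⟩

end cyclic

variable {k : Type u} [Field k] (p : ℕ) [Fact p.Prime] [CharP k p] {n : ℕ}
  {u : PowerSeries k} (hu1 : constantCoeff u = 1) (hun : u ^ n * (1 + X ^ n) = 1) (hn : 0 < n) (hpn : ¬ p ∣ n)
  (hu : IsUnit u) (a : ℤ)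

/-- the standard cocycle values -/
def cc (m : ℕ) : PowerSeries k :=
  PowerSeries.mk fun i => coeff (i + m) (((hu.unit ^ (a - m) : (PowerSeries k)ˣ) : PowerSeries k) - 1)

/-- the indices of the basis -/
def idx (n : ℕ) : Finset ℕ := (Finset.Icc 1 n).filter (fun m : ℕ => ¬ (p : ℤ) ∣ a - (m : ℤ))

/-- the combination of the basic cocycles -/
def comb (n : ℕ) : (idx p a n → k) →ₗ[k] PowerSeries k :=
  Fintype.linearCombination k fun m : idx p a n => cc hu a (m : ℕ)

variable {G : Type u} [Group G] [Finite G] (g : G) (hG : Nat.card G = p)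
  (ρ : Representation k G (PowerSeries k))
  (hρ : ∀ h : PowerSeries k, ρ g h =
    ((hu.unit ^ a : (PowerSeries k)ˣ) : PowerSeries k) * PowerSeries.subst (PowerSeries.X * u) h)

include hpn in
theorem cast_n : (n : k) ≠ 0 := fun h => hpn ((CharP.cast_eq_zero_iff k p n).1 h)

include hu1 hun hpn in
theorem X_pow_mul_cc {m : ℕ} (hm : m ≤ n) :
    X ^ m * cc hu a m = ((hu.unit ^ (a - m) : (PowerSeries k)ˣ) : PowerSeries k) - 1 := by
  ext i
  rw [coeff_X_pow_mul']
  split_ifs with h
  · simp [cc, Nat.sub_add_cancel h]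
    split_ifs <;> first | rfl | omega
  · rcases Nat.eq_zero_or_pos n with h0 | h0
    · omega
    · rw [coeff_zpow_sub_one hu1 hun (cast_n p hpn) hu _ i (by omega), if_neg (by omega)]

/-- `σ` -/
abbrev sigma (u : PowerSeries k) : PowerSeries k →ₐ[k] PowerSeries k := substAlgHom (hasSubst u)

omit [CharP k p] in
theorem sigma_X (u : PowerSeries k) : sigma u X = X * u := by
  simp only [sigma, coe_substAlgHom, subst_X (hasSubst u)]

omit [CharP k p] in
theorem sigma_apply (u h : PowerSeries k) : subst (X * u) h = sigma u h := by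
  simp only [sigma, coe_substAlgHom]

include hρ in
theorem rho_apply (h : PowerSeries k) :
    ρ g h = ((hu.unit ^ a : (PowerSeries k)ˣ) : PowerSeries k) * sigma u h := by
  rw [hρ, sigma_apply]

include hu1 hun hpn hρ in
/-- the leading coefficient of `g - 1` -/
theorem delta_lead (h : PowerSeries k) (d : ℕ) (hd : X ^ d ∣ h) :
    X ^ (d + n) ∣ (ρ g - 1) h ∧
      coeff (d + n) ((ρ g - 1) h) = -((a + d : ℤ) : k) * (n : k)⁻¹ * coeff d h := by
  obtain ⟨z, rfl⟩ := hd
  have hn0 := cast_n (k := k) p hpn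
  set U : PowerSeries k := ((hu.unit ^ (a + d : ℤ) : (PowerSeries k)ˣ) : PowerSeries k)
  have hΔ : (ρ g - 1) (X ^ d * z) = X ^ d * ((U - 1) * sigma u z + (sigma u z - z)) := by
    rw [LinearMap.sub_apply, Module.End.one_apply, rho_apply hu a g ρ hρ, map_mul, map_pow, sigma_X, mul_pow]
    simp only [U, zpow_add, zpow_natCast, Units.val_mul, Units.val_pow_eq_pow_val, IsUnit.unit_spec]
    ring
  have h1 : ∀ i, i < n → coeff i ((U - 1) * sigma u z + (sigma u z - z)) = 0 := by
    intro i hi
    have hU : X ^ n ∣ U - 1 := X_pow_dvd_iff.2 fun j hj => by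
      rw [coeff_zpow_sub_one hu1 hun hn0 hu _ j (by omega), if_neg (by omega)]
    rw [map_add, X_pow_dvd_iff.1 (dvd_mul_of_dvd_left hU _) i hi, map_sub, ← sigma_apply,
      coeff_subst_of_lt hu1 hun hn0 z i hi, sub_self, add_zero]
  rw [hΔ, pow_add]
  refine ⟨mul_dvd_mul_left _ (X_pow_dvd_iff.2 h1), ?_⟩
  rw [add_comm d n, coeff_X_pow_mul, map_add]
  have hc0 : coeff 0 (sigma u z) = coeff 0 z := by
    rcases Nat.eq_zero_or_pos n with h0 | h0
    · exact absurd (h0 ▸ hn0) (by simp)
    · rw [← sigma_apply, coeff_subst_of_lt hu1 hun hn0 z 0 h0]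
  have h2 : coeff n ((U - 1) * sigma u z) = -((a + d : ℤ) : k) * (n : k)⁻¹ * coeff 0 z := by
    rw [coeff_mul, Finset.Nat.sum_antidiagonal_eq_sum_range_succ_mk, Finset.sum_range_succ]
    simp only [Nat.sub_self]
    rw [Finset.sum_eq_zero fun j hj => by
      rw [coeff_zpow_sub_one hu1 hun hn0 hu _ j (by have := Finset.mem_range.1 hj; omega),
        if_neg (by have := Finset.mem_range.1 hj; omega), zero_mul],
      zero_add, coeff_zpow_sub_one hu1 hun hn0 hu _ n (by rcases Nat.eq_zero_or_pos n with h0 | h0 <;> first | (exact absurd (h0 ▸ hn0) (by simp)) | omega),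
      if_pos rfl, hc0]
  have h3 : coeff n (sigma u z - z) = 0 := by
    rcases Nat.eq_zero_or_pos n with h0 | h0
    · exact absurd (h0 ▸ hn0) (by simp)
    obtain ⟨w, hw⟩ : X ∣ z - C (coeff 0 z) := X_dvd_iff.2 (by simp)
    have h4 : sigma u z - z = X * ((u - 1) * sigma u w + (sigma u w - w)) := by
      rw [show z = C (coeff 0 z) + X * w by rw [← hw]; ring, map_add, map_mul, sigma_X]
      rw [show sigma u (C (coeff 0 z)) = C (coeff 0 z) from (sigma u).commutes _]
      ring
    obtain ⟨q, hq⟩ : ∃ q, n = q + 1 := ⟨n - 1, by omega⟩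
    have h5 : coeff (q + 1) (sigma u z - z) = 0 := by
      rw [h4, coeff_succ_X_mul, map_add, X_pow_dvd_iff.1 (dvd_mul_of_dvd_left (dvd_sub_one hu1 hun hn0) _) q (by omega),
        map_sub, ← sigma_apply, coeff_subst_of_lt hu1 hun hn0 w q (by omega), sub_self, add_zero]
    rw [← hq] at h5
    exact h5
  rw [h2, h3, add_zero, show coeff d (X ^ d * z) = coeff 0 z by simpa using coeff_X_pow_mul z d 0]

include hu1 hun hpn hρ in
theorem delta_pow_lead (h : PowerSeries k) (d : ℕ) (hd : X ^ d ∣ h) (j : ℕ) :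
    X ^ (d + j * n) ∣ ((ρ g - 1) ^ j) h ∧ coeff (d + j * n) (((ρ g - 1) ^ j) h) =
      (∏ l ∈ Finset.range j, (-((a + (d + l * n : ℕ) : ℤ) : k) * (n : k)⁻¹)) * coeff d h := by
  induction j with
  | zero => simpa using hd
  | succ j ih =>
    rw [pow_succ', Module.End.mul_apply, Nat.succ_mul, ← add_assoc]
    obtain ⟨h1, h2⟩ := delta_lead p hu1 hun hpn hu a g ρ hρ _ _ ih.1
    refine ⟨h1, ?_⟩
    rw [h2, ih.2, Finset.prod_range_succ]
    ring

omit [Finite G] in
theorem tr_eq : tr ρ g p = (ρ g - 1) ^ (p - 1) := by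
  have h : (Polynomial.X - 1 : Polynomial k) ^ (p - 1) = ∑ l ∈ Finset.range p, Polynomial.X ^ l := by
    refine mul_right_cancel₀ (show (Polynomial.X - 1 : Polynomial k) ≠ 0 by
      simpa using Polynomial.X_sub_C_ne_zero (1 : k)) ?_
    rw [geom_sum_mul, ← pow_succ, Nat.sub_add_cancel (Fact.out : p.Prime).one_le, sub_pow_char, one_pow]
  have h' := congrArg (Polynomial.aeval (ρ g)) h
  simp only [map_pow, map_sub, Polynomial.aeval_X, map_one, map_sum] at h'
  exact h'.symm

include hu1 hun hpn hρ in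
theorem coeff_eq_zero_of_tr (h : PowerSeries k) (d : ℕ) (hd : X ^ d ∣ h) (hN : tr ρ g p h = 0)
    (hdiv : (p : ℤ) ∣ a + d - n) : coeff d h = 0 := by
  have h1 := (delta_pow_lead p hu1 hun hpn hu a g ρ hρ h d hd (p - 1)).2
  rw [← tr_eq, hN, map_zero, eq_comm, mul_eq_zero] at h1
  refine h1.resolve_left (Finset.prod_ne_zero_iff.2 fun l hl => ?_)
  refine mul_ne_zero (neg_ne_zero.2 fun h0 => ?_) (inv_ne_zero (cast_n p hpn))
  rw [CharP.intCast_eq_zero_iff k p] at h0
  have h2 : (p : ℤ) ∣ ((l + 1 : ℕ) : ℤ) * n := by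
    have := dvd_sub h0 hdiv
    push_cast at this ⊢
    ring_nf at this ⊢
    exact this
  rw [← Nat.cast_mul, Int.natCast_dvd_natCast, (Fact.out : p.Prime).dvd_mul] at h2
  rcases h2 with h2 | h2
  · have := Nat.le_of_dvd (Nat.succ_pos l) h2
    have := Finset.mem_range.1 hl
    omega
  · exact hpn h2

include hu1 hun hpn hρ hG in
theorem tr_cc {m : ℕ} (hm : m ≤ n) : tr ρ g p (cc hu a m) = 0 := by
  let T : Module.End k (PowerSeries k) :=
    LinearMap.mulLeft k ((hu.unit ^ (a - m) : (PowerSeries k)ˣ) : PowerSeries k) ∘ₗ (sigma u).toLinearMap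
  have hT : ∀ z, T z = ((hu.unit ^ (a - m) : (PowerSeries k)ˣ) : PowerSeries k) * sigma u z := fun z => rfl
  have hua : ((hu.unit ^ a : (PowerSeries k)ˣ) : PowerSeries k) =
      ((hu.unit ^ (a - m) : (PowerSeries k)ˣ) : PowerSeries k) * u ^ m := by
    rw [show a = (a - m) + (m : ℤ) by ring, zpow_add, Units.val_mul, add_sub_cancel_right, zpow_natCast,
      Units.val_pow_eq_pow_val, IsUnit.unit_spec]
  have hTX : ∀ (j : ℕ) z, (T ^ j) (X ^ m * z) = X ^ m * (ρ g ^ j) z := by
    intro j
    induction j with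
    | zero => simp
    | succ j ih =>
      intro z
      rw [pow_succ', Module.End.mul_apply, ih, pow_succ', Module.End.mul_apply, hT, map_mul, map_pow, sigma_X,
        rho_apply hu a g ρ hρ, hua, mul_pow]
      ring
  have hTm : ∀ (j : ℕ) (f z : PowerSeries k), (T ^ j) (f * z) = (T ^ j) f * ((sigma u)^[j] z) := by
    intro j
    induction j with
    | zero => simp
    | succ j ih =>
      intro f z
      rw [pow_succ', Module.End.mul_apply, ih, Module.End.mul_apply, hT, hT, map_mul, Function.iterate_succ_apply']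
      ring
  have hρm : ∀ (j : ℕ) (f z : PowerSeries k), (ρ g ^ j) (f * z) = (ρ g ^ j) f * ((sigma u)^[j] z) := by
    intro j
    induction j with
    | zero => simp
    | succ j ih =>
      intro f z
      rw [pow_succ', Module.End.mul_apply, ih, Module.End.mul_apply, rho_apply hu a g ρ hρ, rho_apply hu a g ρ hρ,
        map_mul, Function.iterate_succ_apply']
      ring
  have hp := rho_pow ρ g p hG
  have hσ : ∀ z, (sigma u)^[p] z = z := fun z => by
    have h := hρm p 1 z
    rw [hp, Module.End.one_apply, Module.End.one_apply, one_mul, one_mul] at h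
    exact h.symm
  have hT1 : (T ^ p) 1 = 1 := by
    have h := hTm p 1 (X ^ m)
    rw [one_mul, hσ, ← mul_one (X ^ m), hTX, hp, Module.End.one_apply, mul_one] at h
    have h' : (T ^ p) 1 * X ^ m = 1 * X ^ m := by rw [one_mul]; exact h.symm
    exact mul_right_cancel₀ (pow_ne_zero _ X_ne_zero) h'
  have hc : X ^ m * cc hu a m = T 1 - 1 := by
    rw [X_pow_mul_cc p hu1 hun hpn hu a hm, hT, map_one, mul_one]
  refine mul_left_cancel₀ (pow_ne_zero m (X_ne_zero (R := k))) ?_
  rw [tr, LinearMap.sum_apply, Finset.mul_sum, mul_zero]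
  simp only [← hTX, hc, map_sub]
  simp only [← Module.End.mul_apply, ← pow_succ]
  rw [Finset.sum_range_sub (fun l => (T ^ l) 1), hT1, pow_zero, Module.End.one_apply, sub_self]

include hu1 hun hpn hn hρ hG in
theorem exists_comb (h : PowerSeries k) (hN : tr ρ g p h = 0) :
    ∃ coef w, h = comb p hu a n coef + (ρ g - 1) w := by
  classical
  have hn0 := cast_n (k := k) p hpn
  let β : ℕ → k := fun d => -((a + d - n : ℤ) : k) * (n : k)⁻¹
  let el : ℕ → PowerSeries k := fun d => if d < n then cc hu a (n - d) else (ρ g - 1) (X ^ (d - n))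
  have hel : ∀ d, X ^ d ∣ el d ∧ coeff d (el d) = β d ∧ tr ρ g p (el d) = 0 := by
    intro d
    by_cases hd : d < n
    · simp only [el, if_pos hd]
      refine ⟨X_pow_dvd_iff.2 fun i hi => ?_, ?_, tr_cc p hu1 hun hpn hu a g hG ρ hρ (Nat.sub_le n d)⟩
      · simp only [cc, coeff_mk]
        rw [coeff_zpow_sub_one hu1 hun hn0 hu _ _ (by omega), if_neg (by omega)]
      · simp only [cc, coeff_mk, β]
        rw [coeff_zpow_sub_one hu1 hun hn0 hu _ _ (by omega), if_pos (by omega), Nat.cast_sub hd.le]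
        congr 3
        ring
    · simp only [el, if_neg hd]
      obtain ⟨h1, h2⟩ := delta_lead p hu1 hun hpn hu a g ρ hρ (X ^ (d - n)) (d - n) dvd_rfl
      rw [Nat.sub_add_cancel (not_lt.1 hd)] at h1 h2
      refine ⟨h1, ?_, ?_⟩
      · rw [h2, coeff_X_pow_self, mul_one]
        simp only [β]
        rw [Nat.cast_sub (not_lt.1 hd), add_sub_assoc]
      · rw [← Module.End.mul_apply, tr, geom_sum_mul, rho_pow ρ g p hG, sub_self, LinearMap.zero_apply]
  let r : ℕ → PowerSeries k := fun d => Nat.rec h (fun d z => z - (coeff d z * (β d)⁻¹) • el d) d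
  let lam : ℕ → k := fun d => coeff d (r d) * (β d)⁻¹
  have hr : ∀ d, r (d + 1) = r d - lam d • el d := fun d => rfl
  have hinv : ∀ d, X ^ d ∣ r d ∧ tr ρ g p (r d) = 0 := by
    intro d
    induction d with
    | zero => exact ⟨by simp, hN⟩
    | succ d ih =>
      refine ⟨X_pow_dvd_iff.2 fun i hi => ?_, ?_⟩
      · rw [hr, map_sub, coeff_smul, smul_eq_mul]
        rcases Nat.lt_succ_iff_lt_or_eq.1 hi with hlt | rfl
        · rw [X_pow_dvd_iff.1 ih.1 i hlt, X_pow_dvd_iff.1 (hel d).1 i hlt, mul_zero, sub_zero]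
        · rw [(hel i).2.1]
          by_cases hβ : β i = 0
          · rw [hβ, mul_zero, sub_zero]
            refine coeff_eq_zero_of_tr p hu1 hun hpn hu a g ρ hρ _ i ih.1 ih.2 ?_
            simp only [β, mul_eq_zero, _root_.inv_eq_zero, hn0, or_false, neg_eq_zero] at hβ
            exact (CharP.intCast_eq_zero_iff k p _).1 hβ
          · simp only [lam]
            rw [inv_mul_cancel_right₀ hβ, sub_self]
      · rw [hr, map_sub, map_smul, ih.2, (hel d).2.2, smul_zero, sub_zero]
  let coef : idx p a n → k := fun m => lam (n - (m : ℕ))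
  let w : PowerSeries k := PowerSeries.mk fun i => lam (i + n)
  refine ⟨coef, w, ?_⟩
  have hlam : ∀ d : ℕ, (p : ℤ) ∣ a + (d : ℤ) - n → lam d = 0 := fun d hd => by
    simp only [lam, β, (CharP.intCast_eq_zero_iff k p _).2 hd, neg_zero, zero_mul, inv_zero, mul_zero]
  have hrn : r n = h - comb p hu a n coef := by
    have h1 : ∀ d, r d = h - ∑ i ∈ Finset.range d, lam i • el i := fun d => by
      induction d with
      | zero => simp [r]
      | succ d ih => rw [hr, ih, Finset.sum_range_succ, sub_add_eq_sub_sub]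
    rw [h1 n, comb, Fintype.linearCombination_apply]
    congr 1
    rw [Finset.sum_coe_sort (idx p a n) (fun m => lam (n - m) • cc hu a m), idx,
      Finset.sum_filter_of_ne (fun m hm hne => ?_)]
    · refine Finset.sum_nbij' (fun i => n - i) (fun m => n - m) ?_ ?_ ?_ ?_ ?_
      · intro i hi; simp at hi ⊢; omega
      · intro m hm; simp at hm ⊢; omega
      · intro i hi; simp at hi ⊢; omega
      · intro m hm; simp at hm ⊢; omega
      · intro i hi
        have hi' := Finset.mem_range.1 hi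
        simp only [el, if_pos hi', show n - (n - i) = i by omega]
    · intro hdiv
      obtain ⟨h1, h2⟩ := Finset.mem_Icc.1 hm
      refine hne ?_
      rw [hlam (n - m) (by rwa [Nat.cast_sub h2, show a + ((n : ℤ) - m) - n = a - m by ring]), zero_smul]
  have hrw : ∀ D, r (n + D) = r n - (ρ g - 1) (↑(w.trunc D) : PowerSeries k) := fun D => by
    induction D with
    | zero => simp
    | succ D ih =>
      rw [← add_assoc, hr, ih, trunc_succ, Polynomial.coe_add, map_add, sub_add_eq_sub_sub]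
      congr 1
      rw [Polynomial.coe_monomial, monomial_eq_C_mul_X_pow, ← smul_eq_C_mul, map_smul, coeff_mk, add_comm n D]
      simp only [el, if_neg (show ¬ D + n < n by omega), Nat.add_sub_cancel]
  suffices h0 : r n - (ρ g - 1) w = 0 by
    rw [hrn] at h0
    rw [← sub_eq_zero, ← h0]
    abel
  ext i
  rw [map_zero]
  have h1 : X ^ (i + 1) ∣ w - (↑(w.trunc (i + 1)) : PowerSeries k) := X_pow_dvd_iff.2 fun j hj => by
    rw [map_sub, Polynomial.coeff_coe, coeff_trunc, if_pos hj, sub_self]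
  have h2 := X_pow_dvd_iff.1 (delta_lead p hu1 hun hpn hu a g ρ hρ _ _ h1).1 i (by omega)
  have h3 := X_pow_dvd_iff.1 (hinv (n + (i + 1))).1 i (by omega)
  rw [hrw, map_sub] at h3
  rw [map_sub (ρ g - 1), map_sub] at h2
  rw [map_sub]
  linear_combination h3 - h2

include hu1 hun hpn hn hρ in
theorem comb_mkQ_injective [IsAlgClosed k] :
    Function.Injective ((LinearMap.range (ρ g - 1)).mkQ ∘ₗ comb p hu a n) := by
  classical
  rw [injective_iff_map_eq_zero]
  intro coef hc
  obtain ⟨w, hw⟩ := (Submodule.Quotient.mk_eq_zero _).1 hc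
  let coef' : ℕ → k := fun m => if hm : m ∈ idx p a n then coef ⟨m, hm⟩ else 0
  have h := S13864.result p n hn hpn u hu1 hun hu a (cc hu a) (fun m _ hm => X_pow_mul_cc p hu1 hun hpn hu a hm)
    coef' w (by
      rw [← hρ, show ρ g w - w = (ρ g - 1) w from rfl, hw, comb, Fintype.linearCombination_apply,
        ← Finset.sum_coe_sort ((Finset.Icc 1 n).filter fun m : ℕ => ¬ (p : ℤ) ∣ a - (m : ℤ))]
      refine Finset.sum_congr rfl fun m _ => ?_
      simp only [coef']
      rw [dif_pos m.2])
  funext m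
  have h' := h m m.2
  simp only [coef'] at h'
  rw [dif_pos m.2] at h'
  exact h'

include hu1 hun hpn hn hρ hG in
theorem range_psi (hg : ∀ x : G, x ∈ Subgroup.zpowers g) :
    LinearMap.range (psi ρ g) = LinearMap.range ((LinearMap.range (ρ g - 1)).mkQ ∘ₗ comb p hu a n) := by
  classical
  refine le_antisymm ?_ ?_
  · rintro _ ⟨f, rfl⟩
    obtain ⟨coef, w, hw⟩ := exists_comb p hu1 hun hn hpn hu a g hG ρ hρ _ (tr_evalGen ρ g p hG hg f)
    refine ⟨coef, ?_⟩
    rw [psi, LinearMap.comp_apply, LinearMap.comp_apply, hw, map_add, Submodule.mkQ_apply, Submodule.mkQ_apply,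
      (Submodule.Quotient.mk_eq_zero _).2 (LinearMap.mem_range_self _ w), add_zero]
  · rintro _ ⟨coef, rfl⟩
    have hN : tr ρ g p (comb p hu a n coef) = 0 := by
      rw [comb, Fintype.linearCombination_apply, map_sum]
      refine Finset.sum_eq_zero fun m _ => ?_
      rw [map_smul, tr_cc p hu1 hun hpn hu a g hG ρ hρ (Finset.mem_Icc.1 (Finset.mem_filter.1 m.2).1).2, smul_zero]
    obtain ⟨f, hf⟩ := exists_cocycle ρ g p hG hg _ hN
    exact ⟨f, by rw [psi, LinearMap.comp_apply, hf]; rfl⟩

end Groth.Agent.ASLocal
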